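import Groth.Agent.GrpShear
import Groth.Agent.NeutralSchLib.Basic
import Groth.Agent.MonoQuotLib.Orbit
import Groth.Agent.QuotRepLib.Restrict
import Groth.Agent.Unram17Lib.FibreMap

/-!
The product of two fibrewise dense opens of a flat group scheme covers it.
-/

set_option autoImplicit false
set_option backward.isDefEq.respectTransparency false
set_option maxHeartbeats 1000000

noncomputable section

universe u

open CategoryTheory CategoryTheory.Limits MonoidalCategory CartesianMonoidalCategory AlgebraicGeometry Topology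
open scoped MonObj
open Groth.Agent.HomogDense Groth.Agent.GrpField Groth.Agent.NeutralSch

namespace Groth.Agent.DenseProd

variable {S : Scheme.{u}} {G : Over S}

/-- Maximal points of a fibre give irreducible components. -/
theorem closure_mem_irred {X Y : Scheme.{u}} (f : X ⟶ Y) (y : Y) {θ : ↥(f.fiber y)} (h : IsMaxPt θ) :
    closure {f.fiberHomeo y θ} ∈ irreducibleComponents ↥(f.base ⁻¹' {y}) := by
  refine ⟨isIrreducible_singleton.closure, fun Z hZ hsub => ?_⟩
  let e := f.fiberHomeo y
  have h1 := (closure_mem_irreducibleComponents h).2 (hZ.image e.symm e.symm.continuous.continuousOn) (by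
    have := Set.image_mono (f := e.symm) hsub
    rwa [e.symm.image_closure, Set.image_singleton, e.symm_apply_apply] at this)
  intro z hz
  have h2 : e.symm z ∈ closure {θ} := h1 ⟨z, hz, rfl⟩
  have h3 := Set.mem_image_of_mem e h2
  rwa [e.image_closure, Set.image_singleton, e.apply_symm_apply] at h3

/-- The projection from a product with a point sends maximal points to maximal points of fibres. -/
theorem exists_max_fibre {K : Type u} [Field K] (t : Spec (CommRingCat.of K) ⟶ S) {θ : ↥(G ⊗ Over.mk t).left}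
    (h : IsMaxPt θ) : ∃ (s : S) (θ' : ↥(G.hom.fiber s)), IsMaxPt θ' ∧
      G.hom.fiberι s θ' = (fst G (Over.mk t)).left θ := by
  let c : Spec (CommRingCat.of K) := (IsLocalRing.closedPoint K : PrimeSpectrum K)
  let s := t c
  haveI : Subsingleton ↥(Spec (CommRingCat.of K)) := inferInstanceAs (Subsingleton (PrimeSpectrum K))
  let d : Spec (CommRingCat.of K) ⟶ Spec (S.residueField s) :=
    Spec.map (S.descResidueField (Scheme.stalkClosedPointTo t))
  have hd : d ≫ S.fromSpecResidueField s = t := Scheme.descResidueField_stalkClosedPointTo_fromSpecResidueField K S t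
  let m : pullback G.hom t ⟶ G.hom.fiber s :=
    pullback.lift (pullback.fst G.hom t) (pullback.snd G.hom t ≫ d) (by rw [Category.assoc, hd]; exact pullback.condition)
  have hsq : IsPullback m (pullback.snd G.hom t) (G.hom.fiberToSpecResidueField s) d := by
    refine IsPullback.of_right ?_ (pullback.lift_snd _ _ _) (IsPullback.of_hasPullback G.hom (S.fromSpecResidueField s))
    rw [show m ≫ pullback.fst G.hom (S.fromSpecResidueField s) = pullback.fst G.hom t from pullback.lift_fst _ _ _, hd]
    exact IsPullback.of_hasPullback _ _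
  haveI : Flat d := inferInstance
  haveI : Flat m := MorphismProperty.of_isPullback hsq.flip inferInstance
  exact ⟨s, m θ, isMax_map m h, congrArg (fun φ : pullback G.hom t ⟶ G.left => φ θ) (pullback.lift_fst _ _ _)⟩

theorem exists_product [GrpObj G] (U : Set G.left) (hU : ∀ (s : S) (θ : ↥(G.hom.fiber s)), IsMaxPt θ → G.hom.fiberι s θ ∈ U)
    (x : G.left) : ∃ z : ↥(G ⊗ G).left, (fst G G).left z ∈ U ∧ (snd G G).left z ∈ U ∧ μ[G].left z = x := by
  obtain ⟨K, _, t, p, hp⟩ := exists_fieldPt (Y := G) x
  let T := Over.mk t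
  let ψ : G ⊗ T ⟶ G := (snd G T ≫ p) * (fst G T)⁻¹
  let χ : G ⊗ T ≅ G ⊗ T :=
  { hom := lift ψ (snd G T)
    inv := lift ((fst G T)⁻¹ * (snd G T ≫ p)) (snd G T)
    hom_inv_id := CartesianMonoidalCategory.hom_ext _ _ (by simp [ψ, MonObj.comp_mul, GrpObj.comp_inv]) (by simp)
    inv_hom_id := CartesianMonoidalCategory.hom_ext _ _ (by simp [ψ, MonObj.comp_mul, GrpObj.comp_inv]) (by simp) }
  let q : ↥(Over.mk t).left := (IsLocalRing.closedPoint K : PrimeSpectrum K)
  obtain ⟨θ, hθ, -⟩ := exists_isMax_specializes ((lift p (𝟙 T)).left q)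
  have hmem : ∀ w, IsMaxPt w → (fst G T).left w ∈ U := fun w hw => by
    obtain ⟨s, θ', hθ', e⟩ := exists_max_fibre (G := G) t hw
    exact e ▸ hU s θ' hθ'
  have h1 := hmem θ hθ
  have h2 : ψ.left θ ∈ U := by
    have h := hmem (χ.hom.left θ) (isMax_homeo' (Scheme.homeoOfIso ((Over.forget _).mapIso χ)) hθ)
    rwa [← Scheme.Hom.comp_apply, ← Over.comp_left, show χ.hom ≫ fst G T = ψ from lift_fst _ _] at h
  refine ⟨(lift ψ (fst G T)).left θ, ?_, ?_, ?_⟩
  · rwa [← Scheme.Hom.comp_apply, ← Over.comp_left, lift_fst]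
  · rwa [← Scheme.Hom.comp_apply, ← Over.comp_left, lift_snd]
  · rw [← Scheme.Hom.comp_apply, ← Over.comp_left, ← Hom.mul_def]
    simp only [ψ, inv_mul_cancel_right, Over.comp_left, Scheme.Hom.comp_apply]
    exact hp _

theorem fppf_product [GrpObj G] [Flat G.hom] [LocallyOfFinitePresentation G.hom] {Y : Over S} (g : Y ⟶ G)
    [Flat g.left] [LocallyOfFinitePresentation g.left]
    (hg : ∀ (s : S) (θ : ↥(G.hom.fiber s)), IsMaxPt θ → G.hom.fiberι s θ ∈ Set.range g.left) :
    Flat ((g ⊗ₘ g) ≫ μ[G]).left ∧ LocallyOfFinitePresentation ((g ⊗ₘ g) ≫ μ[G]).left ∧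
      Surjective ((g ⊗ₘ g) ≫ μ[G]).left := by
  haveI : Flat μ[G].left := GrpShear.act_prop (GrpShear.mulAction G) @Flat inferInstance
  haveI : LocallyOfFinitePresentation μ[G].left := GrpShear.act_prop (GrpShear.mulAction G) @LocallyOfFinitePresentation inferInstance
  haveI := QuotRep.whiskerRight_left @Flat g Y inferInstance
  haveI := QuotRep.whiskerRight_left @LocallyOfFinitePresentation g Y inferInstance
  haveI : Flat (G ◁ g).left := MorphismProperty.of_isPullback (FinHom.isPullback_whiskerLeft G g).flip inferInstance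
  haveI : LocallyOfFinitePresentation (G ◁ g).left :=
    MorphismProperty.of_isPullback (FinHom.isPullback_whiskerLeft G g).flip inferInstance
  rw [MonoidalCategory.tensorHom_def, Category.assoc, Over.comp_left, Over.comp_left]
  refine ⟨inferInstance, inferInstance, ⟨fun x => ?_⟩⟩
  obtain ⟨z, ⟨a, ha⟩, ⟨b, hb⟩, hz⟩ := exists_product (Set.range g.left) hg x
  obtain ⟨z', hz'b, hz'⟩ : ∃ z' : ↥(G ⊗ Y).left, (snd G Y).left z' = b ∧ (G ◁ g).left z' = z := by
    obtain ⟨w, h1, h2⟩ := Scheme.exists_preimage_of_isPullback (FinHom.isPullback_whiskerLeft G g) z b hb.symm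
    exact ⟨w, h2, h1⟩
  obtain ⟨w, hw, -⟩ := Scheme.exists_preimage_of_isPullback (QuotRep.isPullback_whiskerRight g Y) z' a (by
    rw [ha, ← hz', ← Scheme.Hom.comp_apply, ← Over.comp_left, whiskerLeft_fst])
  exact ⟨w, by rw [Scheme.Hom.comp_apply, Scheme.Hom.comp_apply, hw, hz', hz]⟩

end Groth.Agent.DenseProd
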